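import Mathlib
import Cfsg.Agent.Lib.Helper42.LW48.Defs

/-!
# LW48 (S0748), package [INVSET]: an invariant `k`-set of an involution containing exactly `i` of
its `2`-cycles
-/

set_option autoImplicit false

namespace Cfsg.Agent.Lib.Helper76.LW48

open Cfsg.Agent.Lib.Helper75.LW Cfsg.Agent.Lib.Helper42.LW48

universe u

theorem invset_pairs {α : Type u} [Fintype α] [DecidableEq α] (t : Equiv.Perm α)
    (ht : ∀ a, t (t a) = a) :
    ∀ i : ℕ, 2 * i ≤ (Finset.univ.filter (fun a => t a ≠ a)).card →
      ∃ Y : Finset α, (∀ a ∈ Y, t a ≠ a) ∧ (∀ a ∈ Y, t a ∈ Y) ∧ Y.card = 2 * i := by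
  intro i
  induction i with
  | zero =>
    intro _
    exact ⟨∅, by simp, by simp, by simp⟩
  | succ i ih =>
    intro hi
    obtain ⟨Y, hYm, hYt, hYc⟩ := ih (by omega)
    have hsub : Y ⊆ Finset.univ.filter (fun a => t a ≠ a) := by
      intro a ha
      simp only [Finset.mem_filter, Finset.mem_univ, true_and]
      exact hYm a ha
    have hlt : Y.card < (Finset.univ.filter (fun a => t a ≠ a)).card := by omega
    obtain ⟨a, haM, haY⟩ := Finset.exists_mem_notMem_of_card_lt_card hlt
    simp only [Finset.mem_filter, Finset.mem_univ, true_and] at haM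
    have htaY : t a ∉ Y := by
      intro h
      have := hYt _ h
      rw [ht] at this
      exact haY this
    have hne : a ≠ t a := fun h => haM h.symm
    refine ⟨insert a (insert (t a) Y), ?_, ?_, ?_⟩
    · intro b hb
      simp only [Finset.mem_insert] at hb
      rcases hb with rfl | rfl | hb
      · exact haM
      · rw [ht]
        exact hne
      · exact hYm b hb
    · intro b hb
      simp only [Finset.mem_insert] at hb ⊢
      rcases hb with rfl | rfl | hb
      · exact Or.inr (Or.inl rfl)
      · rw [ht]
        exact Or.inl rfl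
      · exact Or.inr (Or.inr (hYt b hb))
    · rw [Finset.card_insert_of_notMem, Finset.card_insert_of_notMem htaY, hYc]
      · ring
      · simp only [Finset.mem_insert, not_or]
        exact ⟨hne, haY⟩

/-- [INVSET] -/
theorem pkgInvSet : Cfsg.Agent.Lib.Helper42.LW48.PkgInvSet.{u} := by
  intro α _ _ t k i htt hik hM hF
  have ht : ∀ a, t (t a) = a := by
    intro a
    have := congrArg (fun f : Equiv.Perm α => f a) htt
    simpa using this
  obtain ⟨Y, hYm, hYt, hYc⟩ := invset_pairs t ht i hM
  obtain ⟨Z, hZs, hZc⟩ := Finset.exists_subset_card_eq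
    (s := Finset.univ.filter (fun a => t a = a)) (n := k - 2 * i) (by omega)
  have hZf : ∀ a ∈ Z, t a = a := by
    intro a ha
    have := hZs ha
    simp only [Finset.mem_filter, Finset.mem_univ, true_and] at this
    exact this
  have hdisj : Disjoint Y Z := by
    rw [Finset.disjoint_left]
    intro a haY haZ
    exact hYm a haY (hZf a haZ)
  have hfwd : ∀ a, a ∈ Y ∪ Z → t a ∈ Y ∪ Z := by
    intro a ha
    rcases Finset.mem_union.1 ha with h | h
    · exact Finset.mem_union_left _ (hYt a h)
    · rw [hZf a h]
      exact Finset.mem_union_right _ h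
  refine ⟨Y ∪ Z, ?_, ?_, ?_⟩
  · rw [Finset.card_union_of_disjoint hdisj, hYc, hZc]
    omega
  · intro a
    constructor
    · intro h
      have := hfwd _ h
      rw [ht] at this
      exact this
    · exact hfwd a
  · have : (Y ∪ Z).filter (fun a => t a ≠ a) = Y := by
      ext a
      simp only [Finset.mem_filter, Finset.mem_union]
      constructor
      · rintro ⟨h | h, hne⟩
        · exact h
        · exact absurd (hZf a h) hne
      · intro h
        exact ⟨Or.inl h, hYm a h⟩
    rw [this, hYc]

end Cfsg.Agent.Lib.Helper76.LW48
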