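import Mathlib
import Cfsg.Agent.Lib.Helper42.LW48.Defs

/-!
# LW48 (S0748), package [SIGN]: an involution preserving `D` and moving exactly `2 * i` points of
`D`, `i` odd, induces an odd permutation of `D`
-/

set_option autoImplicit false

namespace Cfsg.Agent.Lib.Helper76.LW48

open Cfsg.Agent.Lib.Helper75.LW Cfsg.Agent.Lib.Helper42.LW48

universe u

/-- the sign of an involution with `2 * i` moved points is `(-1) ^ i` -/
theorem sign_involution {β : Type u} [Fintype β] [DecidableEq β] (σ : Equiv.Perm β)
    (hσ2 : σ ^ 2 = 1) (i : ℕ) (hsupp : σ.support.card = 2 * i) :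
    Equiv.Perm.sign σ = (-1 : ℤˣ) ^ i := by
  have hord : orderOf σ ∣ 2 := orderOf_dvd_of_pow_eq_one hσ2
  have hct : ∀ n ∈ σ.cycleType, n = 2 := by
    intro n hn
    have h1 := Equiv.Perm.dvd_of_mem_cycleType hn
    have h2 := Equiv.Perm.two_le_of_mem_cycleType hn
    have h3 : n ∣ 2 := dvd_trans h1 hord
    have h4 : n ≤ 2 := Nat.le_of_dvd (by norm_num) h3
    omega
  have hrep : σ.cycleType = Multiset.replicate (Multiset.card σ.cycleType) 2 :=
    Multiset.eq_replicate.2 ⟨rfl, hct⟩
  have hsum : σ.cycleType.sum = 2 * Multiset.card σ.cycleType := by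
    conv_lhs => rw [hrep]
    rw [Multiset.sum_replicate, smul_eq_mul, mul_comm]
  have hc : Multiset.card σ.cycleType = i := by
    have := Equiv.Perm.sum_cycleType σ
    omega
  rw [Equiv.Perm.sign_of_cycleType, hsum, hc]
  have : 2 * i + i = 2 * i + i := rfl
  rw [pow_add, pow_mul]
  simp

/-- [SIGN] -/
theorem pkgSign : Cfsg.Agent.Lib.Helper42.LW48.PkgSign.{u} := by
  intro α _ _ t D i htt hD hi hcard
  have ht : ∀ a, t (t a) = a := by
    intro a
    have := congrArg (fun f : Equiv.Perm α => f a) htt
    simpa using this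
  have hσ2 : (t.subtypePerm (fun a => hD a)) ^ 2 = 1 := by
    ext x
    simp [sq, ht]
  have hsupp : (t.subtypePerm (fun a => hD a)).support.card = 2 * i := by
    rw [← hcard]
    apply Finset.card_bij (fun (x : ↥D) _ => (x : α))
    · intro x hx
      rw [Equiv.Perm.mem_support] at hx
      simp only [Finset.mem_filter]
      refine ⟨x.2, fun h => hx (Subtype.ext ?_)⟩
      exact h
    · intro x _ y _ h
      exact Subtype.ext h
    · intro a ha
      simp only [Finset.mem_filter] at ha
      refine ⟨⟨a, ha.1⟩, ?_, rfl⟩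
      rw [Equiv.Perm.mem_support]
      intro h
      exact ha.2 (congrArg Subtype.val h)
  refine ⟨t.subtypePerm (fun a => hD a), ?_, fun x => rfl⟩
  rw [sign_involution _ hσ2 i hsupp]
  exact Odd.neg_one_pow hi

end Cfsg.Agent.Lib.Helper76.LW48
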